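import Mathlib.RingTheory.Flat.EquationalCriterion
import Mathlib.RingTheory.Nilpotent.Lemmas
import Mathlib.RingTheory.Finiteness.Ideal
import Mathlib.RingTheory.Ideal.Operations
import Mathlib.RingTheory.RingHom.Flat

/-!
# Flat quotients agreeing modulo a nilpotent ideal

If `R / I` is flat over `A` then `I ∩ MR = MI`. Consequently, for two ideals with flat quotients that
agree modulo an ideal `N`, the classes of elements of `N^k R` modulo `I + N^(k+1)` and modulo
`I' + N^(k+1)` are the same.
-/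

set_option autoImplicit false
set_option linter.style.haveILetI false

universe u

namespace Groth.L11.FlatDesc

variable {A R : Type u} [CommRing A] [CommRing R] {φ : A →+* R} {I I' : Ideal R}

theorem mem_map_mul_of_flat (h : ((Ideal.Quotient.mk I).comp φ).Flat) (M : Ideal A) {x : R} (hI : x ∈ I)
    (hM : x ∈ M.map φ) : x ∈ M.map φ * I := by
  classical
  letI := φ.toAlgebra
  haveI : Module.Flat A (R ⧸ I) := h
  obtain ⟨n, c, z, rfl⟩ : ∃ (n : ℕ) (c : Fin n → R) (z : Fin n → M), x = ∑ i, c i * φ (z i) := by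
    obtain ⟨c, hc⟩ := (Finsupp.mem_span_iff_linearCombination R ((φ : A → R) '' (M : Set A)) x).1 hM
    refine ⟨c.support.card, fun i => c ((c.support.equivFin.symm i).1),
      fun i => ⟨Classical.choose ((c.support.equivFin.symm i).1).2,
        (Classical.choose_spec ((c.support.equivFin.symm i).1).2).1⟩, ?_⟩
    rw [← hc, Finsupp.linearCombination_apply, Finsupp.sum, ← Finset.sum_coe_sort c.support]
    refine Fintype.sum_equiv c.support.equivFin _ _ fun i => ?_
    simp only [Equiv.symm_apply_apply, smul_eq_mul]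
    rw [(Classical.choose_spec i.1.2).2]
  have h0 : ∑ i, (z i : A) • Ideal.Quotient.mk I (c i) = 0 := by
    rw [← Ideal.Quotient.eq_zero_iff_mem] at hI
    rw [← hI, map_sum]
    refine Finset.sum_congr rfl fun i _ => ?_
    rw [Algebra.smul_def, map_mul, mul_comm]
    rfl
  obtain ⟨k, a, y, hy, ha⟩ := Module.Flat.isTrivialRelation_of_sum_smul_eq_zero h0
  simp only at hy ha
  choose y' hy' using fun j => Ideal.Quotient.mk_surjective (y j)
  have hd : ∀ i, c i - ∑ j, φ (a i j) * y' j ∈ I := fun i => by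
    rw [← Ideal.Quotient.eq_zero_iff_mem, map_sub, hy i, map_sum, sub_eq_zero]
    refine Finset.sum_congr rfl fun j _ => ?_
    rw [map_mul, ← hy' j, Algebra.smul_def]
    rfl
  have e : ∑ i, c i * φ (z i) = ∑ i, φ (z i) * (c i - ∑ j, φ (a i j) * y' j) := by
    have h2 : ∑ i, φ (z i) * ∑ j, φ (a i j) * y' j = 0 := by
      simp only [Finset.mul_sum]
      rw [Finset.sum_comm]
      refine Finset.sum_eq_zero fun j _ => ?_
      simp only [← mul_assoc, ← map_mul]
      rw [← Finset.sum_mul, ← map_sum, ha j, map_zero, zero_mul]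
    simp only [mul_sub, Finset.sum_sub_distrib]
    rw [h2, sub_zero]
    exact Finset.sum_congr rfl fun i _ => mul_comm _ _
  rw [e]
  exact sum_mem fun i _ => Ideal.mul_mem_mul (Ideal.mem_map_of_mem φ (z i).2) (hd i)

/-- In `N^k R`, being zero modulo `I + N^(k+1)` does not depend on the flat lift. -/
theorem exchange (h : ((Ideal.Quotient.mk I).comp φ).Flat) {N : Ideal A} (hN : I ≤ I' ⊔ N.map φ) {k : ℕ}
    {x : R} (hx : x ∈ (N ^ k).map φ) (hxI : x ∈ I ⊔ (N ^ (k + 1)).map φ) : x ∈ I' ⊔ (N ^ (k + 1)).map φ := by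
  obtain ⟨i, hi, y, hy, rfl⟩ := Submodule.mem_sup.1 hxI
  refine add_mem ?_ (Submodule.mem_sup_right hy)
  have hi' : i ∈ (N ^ k).map φ := by
    simpa using sub_mem hx (Ideal.map_mono (Ideal.pow_le_pow_right (Nat.le_succ k)) hy)
  have hle : (N ^ k).map φ * (I' ⊔ N.map φ) ≤ I' ⊔ (N ^ (k + 1)).map φ := by
    rw [Ideal.mul_sup, pow_succ, Ideal.map_mul]
    exact sup_le_sup (Ideal.mul_le_right) le_rfl
  exact hle (Ideal.mul_mono_right hN (mem_map_mul_of_flat h _ hi hi'))

/-- A flat lift contained in a flat lift agreeing with it modulo a nilpotent ideal is equal to it. -/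
theorem le_of_agree (h : ((Ideal.Quotient.mk I).comp φ).Flat) {N : Ideal A} (hnil : IsNilpotent N)
    (hle : I' ≤ I) (hN : I ≤ I' ⊔ N.map φ) : I ≤ I' := by
  have key : ∀ k : ℕ, I ≤ I' ⊔ (N ^ k).map φ := fun k => by
    induction k with
    | zero => simp [Ideal.one_eq_top, Ideal.map_top]
    | succ k ih =>
      intro i hi
      obtain ⟨j, hj, x, hx, rfl⟩ := Submodule.mem_sup.1 (ih hi)
      refine add_mem (Submodule.mem_sup_left hj) (exchange h hN hx (Submodule.mem_sup_left ?_))
      simpa using sub_mem hi (hle hj)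
  obtain ⟨m, hm⟩ := hnil
  refine (key m).trans ?_
  rw [hm, Ideal.zero_eq_bot, Ideal.map_bot, sup_bot_eq]

/-- A finitely generated ideal below `K + M R` is below `K + N R` for a finitely generated `N ≤ M`. -/
theorem exists_fg_le (φ : A →+* R) (M : Ideal A) (K : Ideal R) (I : Ideal R) (hI : I.FG) (h : I ≤ K ⊔ M.map φ) :
    ∃ N : Ideal A, N.FG ∧ N ≤ M ∧ I ≤ K ⊔ N.map φ := by
  classical
  obtain ⟨s, rfl⟩ := hI
  induction s using Finset.induction with
  | empty => exact ⟨⊥, Submodule.fg_bot, bot_le, by simp⟩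
  | insert a s _ ih =>
    rw [Finset.coe_insert, Ideal.span_insert, sup_le_iff] at h
    obtain ⟨N, hN, hNM, hs⟩ := ih h.2
    obtain ⟨j, hj, x, hx, e⟩ := Submodule.mem_sup.1 (h.1 (Ideal.mem_span_singleton_self a))
    obtain ⟨T, hT, hxT⟩ := Submodule.mem_span_finite_of_mem_span hx
    choose g hg hge using fun t (ht : t ∈ T) => hT ht
    let N' : Ideal A := Ideal.span (Set.range fun t : T => g t.1 t.2)
    have hN' : N'.FG := Submodule.fg_span (Set.finite_range _)
    refine ⟨N ⊔ N', Submodule.FG.sup hN hN', sup_le hNM (Ideal.span_le.2 ?_), ?_⟩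
    · rintro _ ⟨t, rfl⟩
      exact hg t.1 t.2
    · rw [Finset.coe_insert, Ideal.span_insert, Ideal.map_sup]
      refine sup_le ((Ideal.span_singleton_le_iff_mem _).2 ?_) (hs.trans (sup_le_sup_left le_sup_left _))
      rw [← e]
      refine add_mem (Submodule.mem_sup_left hj) (Submodule.mem_sup_right (Submodule.mem_sup_right ?_))
      refine Submodule.span_le.2 ?_ hxT
      intro t ht
      rw [← hge t ht]
      exact Ideal.mem_map_of_mem φ (Ideal.subset_span ⟨⟨t, ht⟩, rfl⟩)

end Groth.L11.FlatDesc
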