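import Groth.Agent.L11.FlatDesc.Rigid
import Groth.Agent.L02.RelCartier.Main
import Groth.Agent.L02.Hilb.FpqcSheaf
import Groth.Agent.L02.PicUnion.ConstFun
import Groth.Agent.L20.FibreScheme
import Groth.Agent.L26.AV.SmoothField
import Mathlib.RingTheory.FinitePresentation

/-!
# Closed subschemes descending along a proper smooth morphism with connected fibres
-/

set_option autoImplicit false
set_option linter.style.haveILetI false
set_option linter.unusedSectionVars false
set_option backward.isDefEq.respectTransparency.types false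
set_option backward.isDefEq.respectTransparency false

universe u

open CategoryTheory CategoryTheory.Limits AlgebraicGeometry TopologicalSpace Opposite

noncomputable section

namespace Groth.L11.FlatDesc

theorem fg_ideal {Y : Scheme.{u}} (I : Y.IdealSheafData) [LocallyOfFinitePresentation I.subschemeι]
    (V : Y.affineOpens) : (I.ideal V).FG := by
  have h := HasRingHomProperty.appLE (P := @LocallyOfFinitePresentation) I.subschemeι inferInstance V
    ⟨_, V.2.preimage I.subschemeι⟩ le_rfl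
  rw [← Scheme.Hom.app_eq_appLE] at h
  letI := (I.subschemeι.app V.1).hom.toAlgebra
  haveI : Algebra.FinitePresentation Γ(Y, V.1) Γ(I.subscheme, I.subschemeι ⁻¹ᵁ V.1) := h
  rw [← I.ker_subschemeι_app V]
  exact Algebra.FinitePresentation.ker_fG_of_surjective (Algebra.ofId _ _) (I.subschemeι_app_surjective V)

theorem isPullback_proj {Q Y : Scheme.{u}} (f : Q ⟶ Y) (I : Y.IdealSheafData) :
    IsPullback (proj f I) (I.comap f).subschemeι I.subschemeι f := by
  refine (IsPullback.of_hasPullback f I.subschemeι).flip.of_iso (I.comapIso f).symm (Iso.refl _) (Iso.refl _)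
    (Iso.refl _) ?_ ?_ ?_ ?_
  · simp only [proj, Iso.symm_hom, Iso.inv_hom_id_assoc, Iso.refl_hom, Category.comp_id]
  · rw [Iso.refl_hom, Category.comp_id, Iso.symm_hom]
    erw [Scheme.IdealSheafData.comapIso_inv_subschemeι]
  · simp
  · simp

theorem lfp_comap {Q Y : Scheme.{u}} (f : Q ⟶ Y) (I : Y.IdealSheafData) [LocallyOfFinitePresentation I.subschemeι] :
    LocallyOfFinitePresentation (I.comap f).subschemeι :=
  MorphismProperty.of_isPullback (P := @LocallyOfFinitePresentation) (isPullback_proj f I) inferInstance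

theorem flat_comap {Q Y T : Scheme.{u}} (f : Q ⟶ Y) [Flat f] (I : Y.IdealSheafData) (k : Y ⟶ T)
    (h : Flat (I.subschemeι ≫ k)) : Flat ((I.comap f).subschemeι ≫ f ≫ k) := by
  rw [← Category.assoc, ← proj_ι f I, Category.assoc]
  haveI : Flat (proj f I) := by rw [proj]; infer_instance
  infer_instance

theorem flat_ring {Y T : Scheme.{u}} (k : Y ⟶ T) (I : Y.IdealSheafData) (h : Flat (I.subschemeι ≫ k))
    (U : T.affineOpens) (V : Y.affineOpens) (e : V.1 ≤ k ⁻¹ᵁ U.1) :
    ((Ideal.Quotient.mk (I.ideal V)).comp (k.appLE U.1 V.1 e).hom).Flat :=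
  (Groth.L02.RelCartier.flat_appLE_subscheme_iff k I U V e (fun y hy => e hy)).1
    (HasRingHomProperty.appLE (P := @Flat) (I.subschemeι ≫ k) h U ⟨_, V.2.preimage I.subschemeι⟩ _)

/-- The pieces of a smooth proper morphism with connected fibres over closed subschemes. -/
theorem bijective_proj {X Q : Scheme.{u}} (b : Q ⟶ X) [IsProper b] [Smooth b] [GeometricallyConnected b]
    (T : X.IdealSheafData) : Function.Bijective (proj b T).appTop := by
  have sq := isPullback_proj b T
  haveI : IsProper (proj b T) := MorphismProperty.of_isPullback sq.flip ‹IsProper b›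
  haveI : Smooth (proj b T) := MorphismProperty.of_isPullback (P := @Smooth) sq.flip ‹Smooth b›
  haveI : GeometricallyConnected (proj b T) := MorphismProperty.of_isPullback sq.flip ‹GeometricallyConnected b›
  haveI : GeometricallyReduced (proj b T) := Groth.Agent.AV.geometricallyReduced_of_smooth _
  exact Groth.L02.PicUnion.bijective_appTop_of_geometric (f := proj b T) (proj b T).surjective

variable {S X G : Scheme.{u}} (p : X ⟶ S) (g : G ⟶ S) [LocallyOfFiniteType p] [IsProper g] [Smooth g]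
  [GeometricallyConnected g] (W : (pullback p g).IdealSheafData)

set_option maxHeartbeats 800000 in
/-- A flat family over `G` constant modulo the nilradical of `S` is symmetric. -/
theorem comap_fst_eq_comap_snd [Flat (W.subschemeι ≫ pullback.snd p g)]
    [LocallyOfFinitePresentation (W.subschemeι ≫ pullback.snd p g)]
    (hN : ∀ {E : Scheme.{u}} (u v : E ⟶ pullback p g), u ≫ pullback.fst p g = v ≫ pullback.fst p g →
      S.nilradical ≤ (u ≫ pullback.fst p g ≫ p).ker → W.comap u = W.comap v) :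
    W.comap (pullback.fst (pullback.fst p g) (pullback.fst p g)) =
      W.comap (pullback.snd (pullback.fst p g) (pullback.fst p g)) := by
  set q1 := pullback.fst (pullback.fst p g) (pullback.fst p g) with hq1
  set q2 := pullback.snd (pullback.fst p g) (pullback.fst p g) with hq2
  have hq : q1 ≫ pullback.fst p g = q2 ≫ pullback.fst p g := pullback.condition
  haveI : LocallyOfFinitePresentation W.subschemeι :=
    Groth.L20.locallyOfFinitePresentation_of_comp W.subschemeι (pullback.snd p g)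
  have hWS : Flat (W.subschemeι ≫ pullback.fst p g ≫ p) := by
    rw [pullback.condition, ← Category.assoc]
    infer_instance
  have hnil : ∀ (K : (pullback (pullback.fst p g) (pullback.fst p g)).IdealSheafData),
      K = S.nilradical.comap (q1 ≫ pullback.fst p g ≫ p) → W.comap q1 ⊔ K = W.comap q2 ⊔ K := by
    intro K hK
    have h : S.nilradical ≤ (K.subschemeι ≫ q1 ≫ pullback.fst p g ≫ p).ker := by
      rw [← Scheme.IdealSheafData.map_bot, Scheme.IdealSheafData.le_map_iff_comap_le,
        Scheme.IdealSheafData.comap_comp, ← hK, comap_self]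
    have e := hN (K.subschemeι ≫ q1) (K.subschemeι ≫ q2) (by rw [Category.assoc, hq, Category.assoc])
      (by rwa [Category.assoc])
    rw [← Groth.L02.Hilb.map_comap_eq K.subschemeι (W.comap q1 ⊔ K) (by rw [Scheme.IdealSheafData.ker_subschemeι]; exact le_sup_right),
      ← Groth.L02.Hilb.map_comap_eq K.subschemeι (W.comap q2 ⊔ K) (by rw [Scheme.IdealSheafData.ker_subschemeι]; exact le_sup_right),
      Scheme.IdealSheafData.comap_sup, Scheme.IdealSheafData.comap_sup, ← Scheme.IdealSheafData.comap_comp,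
      ← Scheme.IdealSheafData.comap_comp, e]
  have hnil' := hnil _ rfl
  let ι := {V : (pullback p g).affineOpens // ∃ U : S.affineOpens, V.1 ≤ (pullback.fst p g ≫ p) ⁻¹ᵁ U.1}
  refine Groth.L02.Hilb.ext_of_openCover (fun V : ι => (q2 ⁻¹ᵁ V.1.1).ι) (fun z => ?_) fun V => ?_
  · obtain ⟨_, ⟨U, hU, rfl⟩, hzU, -⟩ :=
      S.isBasis_affineOpens.exists_subset_of_mem_open (Set.mem_univ ((pullback.fst p g ≫ p) (q2 z))) isOpen_univ
    obtain ⟨V, hV, hzV, hle⟩ :=
      exists_isAffineOpen_mem_and_subset (x := q2 z) (U := (pullback.fst p g ≫ p) ⁻¹ᵁ U) hzU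
    exact ⟨⟨⟨V, hV⟩, ⟨U, hU⟩, hle⟩, ⟨⟨z, hzV⟩, rfl⟩⟩
  obtain ⟨V, U, hle⟩ := V
  let bV := q2 ∣_ V.1
  let j := (q2 ⁻¹ᵁ V.1).ι
  have sqV : IsPullback j bV q2 V.1.ι := (isPullback_morphismRestrict q2 V.1).flip
  have hb : Smooth (pullback.fst p g) ∧ IsProper (pullback.fst p g) ∧ GeometricallyConnected (pullback.fst p g) :=
    ⟨inferInstance, inferInstance, inferInstance⟩
  haveI := hb.1; haveI := hb.2.1; haveI := hb.2.2
  haveI : IsProper q2 := inferInstance
  haveI : Smooth q2 := inferInstance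
  haveI : GeometricallyConnected q2 := inferInstance
  haveI : IsProper bV := MorphismProperty.of_isPullback sqV ‹IsProper q2›
  haveI : Smooth bV := MorphismProperty.of_isPullback (P := @Smooth) sqV ‹Smooth q2›
  haveI : GeometricallyConnected bV := MorphismProperty.of_isPullback sqV ‹GeometricallyConnected q2›
  haveI : IsAffine V.1.toScheme := V.2
  haveI : CompactSpace (q2 ⁻¹ᵁ V.1).toScheme := QuasiCompact.compactSpace_of_compactSpace bV
  show (W.comap q1).comap j = (W.comap q2).comap j
  rw [← Scheme.IdealSheafData.comap_comp W j q2, show j ≫ q2 = bV ≫ V.1.ι from sqV.w,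
    Scheme.IdealSheafData.comap_comp W bV]
  let k : (q2 ⁻¹ᵁ V.1).toScheme ⟶ S := bV ≫ V.1.ι ≫ pullback.fst p g ≫ p
  have hk : k = (j ≫ q1) ≫ pullback.fst p g ≫ p := by
    simp only [k, Category.assoc]
    rw [← Category.assoc bV, ← show j ≫ q2 = bV ≫ V.1.ι from sqV.w, Category.assoc]
    congr 1
    rw [← Category.assoc, ← Category.assoc, hq]
  let φ : Γ(S, U.1) →+* Γ(V.1.toScheme, ⊤) :=
    ((V.1.ι ≫ pullback.fst p g ≫ p).appLE U.1 ⊤ (fun y _ => hle y.2)).hom
  have hstr : ∀ (Ω : (q2 ⁻¹ᵁ V.1).toScheme.Opens) (e : Ω ≤ k ⁻¹ᵁ U.1), str φ bV Ω = (k.appLE U.1 Ω e).hom := by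
    intro Ω e
    rw [str, ← CommRingCat.hom_comp, Scheme.Hom.appLE_comp_appLE]
  have hΩ : ∀ Ω : (q2 ⁻¹ᵁ V.1).toScheme.Opens, Ω ≤ k ⁻¹ᵁ U.1 := fun Ω y _ => hle (bV y).2
  let d : pullback p g ⟶ pullback (pullback.fst p g) (pullback.fst p g) := pullback.lift (𝟙 _) (𝟙 _) rfl
  let σ : V.1.toScheme ⟶ (q2 ⁻¹ᵁ V.1).toScheme := sqV.lift (V.1.ι ≫ d) (𝟙 _) (by simp [d, q2])
  have hσ : σ ≫ bV = 𝟙 _ := sqV.lift_snd _ _ _
  have hσj : σ ≫ j = V.1.ι ≫ d := sqV.lift_fst _ _ _
  have hfl1 : Flat (((W.comap q1).comap j).subschemeι ≫ k) := by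
    rw [← Scheme.IdealSheafData.comap_comp, hk]
    exact flat_comap (j ≫ q1) W _ hWS
  have hfl2 : Flat (((W.comap V.1.ι).comap bV).subschemeι ≫ k) :=
    flat_comap bV _ _ (flat_comap V.1.ι W _ hWS)
  refine eq_comap_of_section φ bV σ hσ _ _ (fun Ω => ?_) (fun Ω => ?_) (fun Ω => ?_) ?_ ?_ (fun Ω => ?_) ?_
  · rw [hstr Ω.1 (hΩ Ω.1)]
    exact flat_ring k _ hfl1 U Ω (hΩ Ω.1)
  · rw [hstr Ω.1 (hΩ Ω.1)]
    exact flat_ring k _ hfl2 U Ω (hΩ Ω.1)
  · haveI : LocallyOfFinitePresentation (W.comap q1).subschemeι := lfp_comap q1 W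
    haveI := lfp_comap j (W.comap q1)
    exact fg_ideal _ Ω
  · haveI := lfp_comap V.1.ι W
    exact fg_ideal _ _
  · refine le_of_eq ?_
    rw [← Scheme.IdealSheafData.comap_comp, ← Scheme.IdealSheafData.comap_comp, hσj]
    simp [d, q1]
  · have hK : ((S.nilradical).comap k).ideal Ω = (nilradical Γ(S, U.1)).map (str φ bV Ω.1) := by
      rw [Groth.L22.Ideals.comap_ideal k _ U Ω (hΩ Ω.1), hstr Ω.1 (hΩ Ω.1)]
      rfl
    have hkq : k = j ≫ q1 ≫ pullback.fst p g ≫ p := by rw [hk, Category.assoc]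
    have e := congrArg (fun I => (I.comap j).ideal Ω) hnil'
    simp only [Scheme.IdealSheafData.comap_sup, Scheme.IdealSheafData.ideal_sup, Pi.sup_apply,
      ← Scheme.IdealSheafData.comap_comp, ← hkq] at e
    rw [hK, show j ≫ q2 = bV ≫ V.1.ι from sqV.w] at e
    simpa only [← Scheme.IdealSheafData.comap_comp] using e
  · exact fun T => bijective_proj bV T

end Groth.L11.FlatDesc
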