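import Groth.Agent.L11.FlatDesc.Alg
import Groth.Agent.L22.Ideal
import Groth.Agent.L02.Hilb.Base
import Groth.Agent.L02.Hilb.IdealGlue
import Mathlib.RingTheory.Noetherian.Nilpotent
import Mathlib.AlgebraicGeometry.Morphisms.ClosedImmersion
import Mathlib.AlgebraicGeometry.Morphisms.Separated
import Mathlib.Topology.Sheaves.SheafCondition.UniqueGluing

/-!
# Rigidity of flat families along a morphism with only constant functions

Let `b : P ⟶ X` have a section `σ` and satisfy `Γ(T) = Γ(T ×_X P)` for the closed subschemes `T` of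
the affine scheme `X`. A closed subscheme `W` of `P`, flat over a ring `A`, which agrees with the
preimage of a closed subscheme `Z` of `X` modulo the nilradical of `A` and restricts to `Z` along
`σ`, is that preimage.
-/

set_option autoImplicit false
set_option linter.style.haveILetI false
set_option linter.unusedSectionVars false
set_option backward.isDefEq.respectTransparency.types false
set_option backward.isDefEq.respectTransparency false

universe u

open CategoryTheory CategoryTheory.Limits AlgebraicGeometry TopologicalSpace Opposite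

noncomputable section

namespace Groth.L11.FlatDesc

variable {A : Type u} [CommRing A] {X P : Scheme.{u}} (φ : A →+* Γ(X, ⊤)) (b : P ⟶ X)

/-- The structure map of an open. -/
abbrev str (V : P.Opens) : A →+* Γ(P, V) := (b.appLE ⊤ V le_top).hom.comp φ

theorem str_res {V V' : P.Opens} (h : V' ≤ V) :
    (P.presheaf.map (homOfLE h).op).hom.comp (str φ b V) = str φ b V' := by
  rw [str, str, ← RingHom.comp_assoc, ← CommRingCat.hom_comp, Scheme.Hom.appLE_map]

theorem map_str {V V' : P.Opens} (h : V' ≤ V) (M : Ideal A) :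
    (M.map (str φ b V)).map (P.presheaf.map (homOfLE h).op).hom = M.map (str φ b V') := by
  rw [Ideal.map_map, str_res]

/-- The projection of the preimage of a closed subscheme. -/
def proj (T : X.IdealSheafData) : (T.comap b).subscheme ⟶ T.subscheme :=
  (T.comapIso b).hom ≫ pullback.snd _ _

theorem proj_ι (T : X.IdealSheafData) : proj b T ≫ T.subschemeι = (T.comap b).subschemeι ≫ b := by
  rw [proj, Category.assoc, ← pullback.condition, ← Category.assoc, Scheme.IdealSheafData.comapIso_hom_fst]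

theorem comap_self (T : X.IdealSheafData) : T.comap T.subschemeι = ⊥ := by
  refine le_bot_iff.1 (Scheme.IdealSheafData.le_map_iff_comap_le.1 ?_)
  rw [Scheme.IdealSheafData.map_bot, Scheme.IdealSheafData.ker_subschemeι]

theorem app_zero_congr {T : Scheme.{u}} {f g : T ⟶ P} (e : f = g) {V : P.Opens} {x : Γ(P, V)} (h : g.app V x = 0) :
    f.app V x = 0 := by
  subst e
  exact h

theorem app_zero_of_retraction {Y T Q : Scheme.{u}} (ιY : Y ⟶ Q) (pT : Y ⟶ T) (τ : T ⟶ Y) (hτp : τ ≫ pT = 𝟙 T)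
    (hp : Function.Surjective pT.appTop) (h : T ⟶ Q) (hτ : τ ≫ ιY = h) {ι : Type u} (V : ι → Q.Opens)
    (cov : ∀ y : Q, ∃ i, y ∈ V i) (x : ∀ i, Γ(Q, V i))
    (compat : ∀ i j, ιY.app (V i ⊓ V j) (Q.presheaf.map (homOfLE inf_le_left).op (x i) -
      Q.presheaf.map (homOfLE inf_le_right).op (x j)) = 0)
    (hvan : ∀ i, h.app (V i) (x i) = 0) (i₀ : ι) : ιY.app (V i₀) (x i₀) = 0 := by
  let U : ι → Y.Opens := fun i => ιY ⁻¹ᵁ V i
  let sx : ∀ i, Γ(Y, U i) := fun i => ιY.app (V i) (x i)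
  have hcomp : TopCat.Presheaf.IsCompatible Y.presheaf U sx := fun i j => by
    have d4 := compat i j
    rw [map_sub, sub_eq_zero] at d4
    exact ((ConcreteCategory.congr_hom
      (ιY.naturality (homOfLE (inf_le_left : V i ⊓ V j ≤ V i)).op) (x i)).symm.trans d4).trans
      (ConcreteCategory.congr_hom (ιY.naturality (homOfLE (inf_le_right : V i ⊓ V j ≤ V j)).op) (x j))
  have hUtop : (⊤ : Y.Opens) ≤ iSup U := fun y _ => by
    obtain ⟨i, hi⟩ := cov (ιY y)
    exact Opens.mem_iSup.2 ⟨i, hi⟩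
  obtain ⟨g, hg, -⟩ := Y.sheaf.existsUnique_gluing' U ⊤ (fun i => homOfLE le_top) hUtop sx hcomp
  obtain ⟨β, hβ⟩ := hp g
  have hβg : β = τ.appTop g := by
    rw [← hβ, ← ConcreteCategory.comp_apply, ← Scheme.Hom.comp_appTop, hτp]
    rfl
  have hg0 : g = 0 := by
    rw [← hβ, show β = 0 from ?_, map_zero]
    refine (T.sheaf.existsUnique_gluing' (fun i => τ ⁻¹ᵁ U i) ⊤ (fun i => homOfLE le_top)
      (fun y _ => Opens.mem_iSup.2 ((cov (ιY (τ y))).imp fun i hi => hi))
      (fun i => 0) (fun i j => by simp)).unique (fun i => ?_) (fun i => map_zero _)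
    rw [hβg]
    refine (ConcreteCategory.congr_hom (τ.naturality (homOfLE (le_top : U i ≤ ⊤)).op) g).symm.trans ?_
    refine (congrArg (τ.app (U i)) (hg i)).trans ?_
    exact (ConcreteCategory.congr_hom (Scheme.Hom.comp_app τ ιY (V i)) (x i)).symm.trans
      (app_zero_congr hτ (hvan i))
  exact (hg i₀).symm.trans (by rw [hg0]; exact map_zero _)

theorem mem_ideal_of_app_eq_zero {Q : Scheme.{u}} (I : Q.IdealSheafData) (V : Q.affineOpens) {x : Γ(Q, V.1)}
    (h : I.subschemeι.app V.1 x = 0) : x ∈ I.ideal V := by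
  rw [← Scheme.IdealSheafData.ker_subschemeι I, Scheme.Hom.ker_apply]
  exact h

theorem app_eq_zero {T : Scheme.{u}} (f : T ⟶ P) [QuasiCompact f] (I : P.IdealSheafData) (h : I.comap f = ⊥)
    (V : P.affineOpens) {x : Γ(P, V.1)} (hx : x ∈ I.ideal V) : f.app V.1 x = 0 := by
  have h1 : I ≤ f.ker := by
    rw [← Scheme.IdealSheafData.map_bot, Scheme.IdealSheafData.le_map_iff_comap_le, h]
  have h2 := h1 V hx
  rw [Scheme.Hom.ker_apply] at h2
  exact h2

variable [IsAffine X]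

/-- The whole affine scheme. -/
abbrev topAff (X : Scheme.{u}) [IsAffine X] : X.affineOpens := ⟨⊤, isAffineOpen_top X⟩

theorem comap_ideal' (T : X.IdealSheafData) (V : P.affineOpens) :
    (T.comap b).ideal V = (T.ideal (topAff X)).map (b.appLE ⊤ V.1 le_top).hom :=
  Groth.L22.Ideals.comap_ideal b T (topAff X) V le_top

variable [CompactSpace P] [IsSeparated b]

set_option maxHeartbeats 1600000 in
/-- The induction step of rigidity. -/
theorem step (σ : X ⟶ P) [QuasiCompact σ] (hσ : σ ≫ b = 𝟙 X) (W : P.IdealSheafData) (Z : X.IdealSheafData)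
    (hW : ∀ V : P.affineOpens, ((Ideal.Quotient.mk (W.ideal V)).comp (str φ b V.1)).Flat)
    (hZ : ∀ V : P.affineOpens, ((Ideal.Quotient.mk ((Z.comap b).ideal V)).comp (str φ b V.1)).Flat)
    (hσW : W.comap σ ≤ Z) (hfun : ∀ T : X.IdealSheafData, Function.Bijective (proj b T).appTop)
    (s : Finset P.affineOpens) (cov : ∀ x : P, ∃ i : s, x ∈ i.1.1) (N : Ideal A)
    (hij : ∀ i j : s, IsAffineOpen (i.1.1 ⊓ j.1.1))
    (hWij : ∀ i j : s, W.ideal ⟨_, hij i j⟩ ≤ (Z.comap b).ideal ⟨_, hij i j⟩ ⊔ N.map (str φ b _))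
    (hZi : ∀ i : s, (Z.comap b).ideal i.1 ≤ W.ideal i.1 ⊔ N.map (str φ b i.1.1)) (k : ℕ)
    (ih : ∀ i : s, (Z.comap b).ideal i.1 ≤ W.ideal i.1 ⊔ (N ^ k).map (str φ b i.1.1)) (i₀ : s)
    {f : Γ(X, ⊤)} (hf : f ∈ Z.ideal (topAff X)) :
    b.appLE ⊤ i₀.1.1 le_top f ∈ W.ideal i₀.1 ⊔ (N ^ (k + 1)).map (str φ b i₀.1.1) := by
  let T : X.IdealSheafData := Z ⊔ Scheme.IdealSheafData.ofIdealTop ((N ^ (k + 1)).map φ)
  have hT : T.ideal (topAff X) = Z.ideal (topAff X) ⊔ (N ^ (k + 1)).map φ := by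
    rw [Scheme.IdealSheafData.ideal_sup, Pi.sup_apply, Scheme.IdealSheafData.ofIdealTop_ideal,
      show homOfLE (le_top : (⊤ : X.Opens) ≤ ⊤) = 𝟙 _ from rfl, op_id, CategoryTheory.Functor.map_id]
    exact congrArg _ (Ideal.map_id _)
  have hTV : ∀ V : P.affineOpens, (T.comap b).ideal V =
      (Z.comap b).ideal V ⊔ (N ^ (k + 1)).map (str φ b V.1) := fun V => by
    rw [comap_ideal', hT, Ideal.map_sup, comap_ideal', Ideal.map_map]
  have hb : ∀ i : s, ∃ x ∈ (N ^ k).map (str φ b i.1.1), b.appLE ⊤ i.1.1 le_top f - x ∈ W.ideal i.1 := fun i => by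
    have h1 : b.appLE ⊤ i.1.1 le_top f ∈ (Z.comap b).ideal i.1 := by
      rw [comap_ideal']; exact Ideal.mem_map_of_mem _ hf
    obtain ⟨w, hw, x, hx, e⟩ := Submodule.mem_sup.1 (ih i h1)
    exact ⟨x, hx, by rw [← e, add_sub_cancel_right]; exact hw⟩
  choose x hx hxW using hb
  have hcompat : ∀ i j : s, (T.comap b).subschemeι.app (i.1.1 ⊓ j.1.1)
      (P.presheaf.map (homOfLE (inf_le_left : i.1.1 ⊓ j.1.1 ≤ i.1.1)).op (x i) -
        P.presheaf.map (homOfLE (inf_le_right : i.1.1 ⊓ j.1.1 ≤ j.1.1)).op (x j)) = 0 := fun i j => by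
    have d1 : (P.presheaf.map (homOfLE (inf_le_left : i.1.1 ⊓ j.1.1 ≤ i.1.1)).op (x i) -
        P.presheaf.map (homOfLE (inf_le_right : i.1.1 ⊓ j.1.1 ≤ j.1.1)).op (x j)) ∈
        (N ^ k).map (str φ b (i.1.1 ⊓ j.1.1)) := by
      refine sub_mem ?_ ?_
      · rw [← map_str φ b (inf_le_left : i.1.1 ⊓ j.1.1 ≤ i.1.1)]; exact Ideal.mem_map_of_mem _ (hx i)
      · rw [← map_str φ b (inf_le_right : i.1.1 ⊓ j.1.1 ≤ j.1.1)]; exact Ideal.mem_map_of_mem _ (hx j)
    have d2 : ∀ (l : s) (h : i.1.1 ⊓ j.1.1 ≤ l.1.1), b.appLE ⊤ (i.1.1 ⊓ j.1.1) le_top f -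
        P.presheaf.map (homOfLE h).op (x l) ∈ W.ideal ⟨_, hij i j⟩ := fun l h => by
      rw [← Scheme.IdealSheafData.map_ideal W (U := ⟨_, hij i j⟩) (V := l.1) h]
      have := Ideal.mem_map_of_mem (P.presheaf.map (homOfLE h).op).hom (hxW l)
      rw [map_sub] at this
      rw [← Scheme.Hom.appLE_map b le_top (homOfLE h).op]
      exact this
    have d3 : (P.presheaf.map (homOfLE (inf_le_left : i.1.1 ⊓ j.1.1 ≤ i.1.1)).op (x i) -
        P.presheaf.map (homOfLE (inf_le_right : i.1.1 ⊓ j.1.1 ≤ j.1.1)).op (x j)) ∈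
        W.ideal ⟨_, hij i j⟩ := by
      simpa using sub_mem (d2 j inf_le_right) (d2 i inf_le_left)
    have d4 := app_eq_zero (T.comap b).subschemeι (T.comap b) (comap_self _) ⟨_, hij i j⟩
      (show _ ∈ (T.comap b).ideal ⟨_, hij i j⟩ from (hTV ⟨_, hij i j⟩).ge
        (exchange (hW ⟨_, hij i j⟩) (hWij i j) d1 (Submodule.mem_sup_left d3)))
    exact d4
  have hlift : (T.comap b).subschemeι.ker ≤ (T.subschemeι ≫ σ).ker := by
    rw [Scheme.IdealSheafData.ker_subschemeι, ← Scheme.IdealSheafData.map_bot,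
      Scheme.IdealSheafData.le_map_iff_comap_le, ← Scheme.IdealSheafData.comap_comp, Category.assoc, hσ,
      Category.comp_id, comap_self]
  have hτ := IsClosedImmersion.lift_fac (T.comap b).subschemeι (T.subschemeι ≫ σ) hlift
  have hτb : IsClosedImmersion.lift (T.comap b).subschemeι (T.subschemeι ≫ σ) hlift ≫ proj b T = 𝟙 _ := by
    rw [← cancel_mono T.subschemeι, Category.assoc, proj_ι, ← Category.assoc, hτ, Category.assoc, hσ,
      Category.comp_id, Category.id_comp]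
  have hWT : W.comap (T.subschemeι ≫ σ) = ⊥ := by
    rw [Scheme.IdealSheafData.comap_comp, eq_bot_iff, ← comap_self T]
    exact Scheme.IdealSheafData.comap_mono T.subschemeι (hσW.trans le_sup_left)
  have hZT : (Z.comap b).comap (T.subschemeι ≫ σ) = ⊥ := by
    rw [← Scheme.IdealSheafData.comap_comp, Category.assoc, hσ, Category.comp_id, eq_bot_iff, ← comap_self T]
    exact Scheme.IdealSheafData.comap_mono T.subschemeι le_sup_left
  have hvan : ∀ i : s, (T.subschemeι ≫ σ).app i.1.1 (x i) = 0 := fun i => by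
    have h1 := app_eq_zero (T.subschemeι ≫ σ) W hWT i.1 (hxW i)
    have h2 : (T.subschemeι ≫ σ).app i.1.1 (b.appLE ⊤ i.1.1 le_top f) = 0 :=
      app_eq_zero (T.subschemeι ≫ σ) (Z.comap b) hZT i.1 (by rw [comap_ideal']; exact Ideal.mem_map_of_mem _ hf)
    rw [map_sub, h2, zero_sub, neg_eq_zero] at h1
    exact h1
  have hx0 : x i₀ ∈ (T.comap b).ideal i₀.1 :=
    mem_ideal_of_app_eq_zero _ _ (app_zero_of_retraction _ (proj b T) _ hτb (hfun T).2 _ hτ (fun i : s => i.1.1)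
      cov x hcompat hvan i₀)
  rw [hTV] at hx0
  have := add_mem (Submodule.mem_sup_left (hxW i₀) : _ ∈ W.ideal i₀.1 ⊔ (N ^ (k + 1)).map (str φ b i₀.1.1))
    (exchange (hZ i₀.1) (hZi i₀) (hx i₀) hx0)
  simpa using this

set_option maxHeartbeats 1600000 in
/-- Rigidity. -/
theorem eq_comap_of_section (σ : X ⟶ P) (hσ : σ ≫ b = 𝟙 X) (W : P.IdealSheafData) (Z : X.IdealSheafData)
    (hW : ∀ V : P.affineOpens, ((Ideal.Quotient.mk (W.ideal V)).comp (str φ b V.1)).Flat)
    (hZ : ∀ V : P.affineOpens, ((Ideal.Quotient.mk ((Z.comap b).ideal V)).comp (str φ b V.1)).Flat)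
    (hWfg : ∀ V : P.affineOpens, (W.ideal V).FG) (hZfg : (Z.ideal (topAff X)).FG) (hσW : W.comap σ ≤ Z)
    (hnil : ∀ V : P.affineOpens, W.ideal V ⊔ (nilradical A).map (str φ b V.1) =
      (Z.comap b).ideal V ⊔ (nilradical A).map (str φ b V.1))
    (hfun : ∀ T : X.IdealSheafData, Function.Bijective (proj b T).appTop) : W = Z.comap b := by
  classical
  haveI : P.IsSeparated := ⟨by
    rw [show terminal.from P = b ≫ terminal.from _ from Subsingleton.elim _ _]
    infer_instance⟩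
  haveI : IsSeparated σ := by
    haveI : IsSeparated (σ ≫ b) := by rw [hσ]; infer_instance
    exact IsSeparated.of_comp σ b
  haveI : QuasiCompact σ := by
    haveI : QuasiCompact (σ ≫ b) := by rw [hσ]; infer_instance
    exact QuasiCompact.of_comp σ b
  obtain ⟨s, hs⟩ := isCompact_univ.elim_finite_subcover (fun V : P.affineOpens => ((V.1 : P.Opens) : Set P))
    (fun V => V.1.2) (fun x _ => by
      obtain ⟨V, hV, hx, -⟩ := exists_isAffineOpen_mem_and_subset (x := x) (U := ⊤) trivial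
      exact Set.mem_iUnion.2 ⟨⟨V, hV⟩, hx⟩)
  have cov : ∀ x : P, ∃ i : s, x ∈ i.1.1 := fun x => by
    obtain ⟨V, hV, hx⟩ := Set.mem_iUnion₂.1 (hs (Set.mem_univ x))
    exact ⟨⟨V, hV⟩, hx⟩
  -- one finitely generated nilpotent ideal for the whole cover
  have hN1 : ∀ i : s, ∃ N : Ideal A, N.FG ∧ N ≤ nilradical A ∧
      W.ideal i.1 ≤ (Z.comap b).ideal i.1 ⊔ N.map (str φ b i.1.1) := fun i =>
    exists_fg_le _ _ _ _ (hWfg i.1) (le_sup_left.trans (hnil i.1).le)
  have hN2 : ∀ i : s, ∃ N : Ideal A, N.FG ∧ N ≤ nilradical A ∧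
      (Z.comap b).ideal i.1 ≤ W.ideal i.1 ⊔ N.map (str φ b i.1.1) := fun i =>
    exists_fg_le _ _ _ _ (by rw [comap_ideal']; exact hZfg.map _) (le_sup_left.trans (hnil i.1).ge)
  choose N₁ hN₁ hN₁' hWN using hN1
  choose N₂ hN₂ hN₂' hZN using hN2
  let N : Ideal A := Finset.univ.sup fun i => N₁ i ⊔ N₂ i
  have hNle : ∀ i, N₁ i ⊔ N₂ i ≤ N := fun i => Finset.le_sup (f := fun i => N₁ i ⊔ N₂ i) (Finset.mem_univ i)
  have hNfg : N.FG := Submodule.fg_finset_sup _ _ fun i _ => Submodule.FG.sup (hN₁ i) (hN₂ i)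
  have hnilN : IsNilpotent N :=
    (Ideal.FG.isNilpotent_iff_le_nilradical hNfg).2 (Finset.sup_le fun i _ => sup_le (hN₁' i) (hN₂' i))
  have hWi : ∀ i : s, W.ideal i.1 ≤ (Z.comap b).ideal i.1 ⊔ N.map (str φ b i.1.1) := fun i =>
    (hWN i).trans (sup_le_sup_left (Ideal.map_mono (le_sup_left.trans (hNle i))) _)
  have hZi : ∀ i : s, (Z.comap b).ideal i.1 ≤ W.ideal i.1 ⊔ N.map (str φ b i.1.1) := fun i =>
    (hZN i).trans (sup_le_sup_left (Ideal.map_mono (le_sup_right.trans (hNle i))) _)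
  have hij : ∀ i j : s, IsAffineOpen (i.1.1 ⊓ j.1.1) := fun i j => i.1.2.inf j.1.2
  have hWij : ∀ i j : s, W.ideal ⟨_, hij i j⟩ ≤ (Z.comap b).ideal ⟨_, hij i j⟩ ⊔ N.map (str φ b _) := fun i j => by
    have h := Ideal.map_mono (f := (P.presheaf.map (homOfLE (inf_le_left : i.1.1 ⊓ j.1.1 ≤ i.1.1)).op).hom) (hWi i)
    rw [Ideal.map_sup, map_str] at h
    have hle : (⟨_, hij i j⟩ : P.affineOpens) ≤ i.1 := (inf_le_left : i.1.1 ⊓ j.1.1 ≤ i.1.1)
    erw [Scheme.IdealSheafData.map_ideal W hle, Scheme.IdealSheafData.map_ideal (Z.comap b) hle] at h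
    exact h
  suffices key : ∀ k : ℕ, ∀ i : s, (Z.comap b).ideal i.1 ≤ W.ideal i.1 ⊔ (N ^ k).map (str φ b i.1.1) by
    obtain ⟨m, hm⟩ := hnilN
    have hle : ∀ i : s, (Z.comap b).ideal i.1 ≤ W.ideal i.1 := fun i => by
      have := key m i
      rwa [hm, Ideal.zero_eq_bot, Ideal.map_bot, sup_bot_eq] at this
    refine Groth.L02.Hilb.ext_of_openCover (fun i : s => i.1.1.ι) (fun x => ?_) fun i => ?_
    · obtain ⟨i, hi⟩ := cov x
      exact ⟨i, ⟨⟨x, hi⟩, rfl⟩⟩
    · haveI : IsAffine i.1.1.toScheme := i.1.2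
      refine Scheme.IdealSheafData.ext_of_isAffine ?_
      rw [Groth.L22.Ideals.comap_ideal_ι, Groth.L22.Ideals.comap_ideal_ι,
        le_antisymm (le_of_agree (hW i.1) ⟨m, hm⟩ (hle i) (hWi i)) (hle i)]
  intro k
  induction k with
  | zero => intro i; simp [Ideal.one_eq_top, Ideal.map_top]
  | succ k ih =>
    intro i₀
    rw [comap_ideal', Ideal.map_le_iff_le_comap]
    intro f hf
    rw [Ideal.mem_comap]
    exact step φ b σ hσ W Z hW hZ hσW hfun s cov N hij hWij hZi k ih i₀ hf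

end Groth.L11.FlatDesc
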